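import Groth.Agent.MultGeomLib.Split
import Groth.Agent.MultExtSchLib.Core

/-!
Affine flat groups whose geometric fibres are of multiplicative type with locally constant torsion order.
-/

set_option autoImplicit false
set_option backward.isDefEq.respectTransparency false
set_option backward.isDefEq.respectTransparency.types false
set_option linter.unusedSectionVars false
set_option linter.style.haveILetI false
set_option maxHeartbeats 1000000
set_option synthInstance.maxHeartbeats 400000

universe u

open CategoryTheory CategoryTheory.Limits MonoidalCategory CartesianMonoidalCategory MonObj GrpObj AlgebraicGeometry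
open TensorProduct WithConv SGA3b
open scoped TensorProduct

noncomputable section

namespace Groth.Agent.MultGeom

open MultExtCentral FixedSmooth MuGLLib MultExtSch TorusField

/-- The square of rings defining the torsion subgroup. -/
theorem isPushout_torsion (R : Type u) [CommRing R] (C : Type u) [CommRing C] [HopfAlgebra R C] (n : ℕ) :
    IsPushout (CommRingCat.ofHom (powConv R C n).toRingHom)
      (CommRingCat.ofHom (Bialgebra.counitAlgHom R C).toRingHom)
      (CommRingCat.ofHom (Ideal.Quotient.mk (torsionIdeal R C n)))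
      (CommRingCat.ofHom (algebraMap R (C ⧸ torsionIdeal R C n))) := by
  have w : CommRingCat.ofHom (powConv R C n).toRingHom ≫ CommRingCat.ofHom (Ideal.Quotient.mk (torsionIdeal R C n)) =
      CommRingCat.ofHom (Bialgebra.counitAlgHom R C).toRingHom ≫
        CommRingCat.ofHom (algebraMap R (C ⧸ torsionIdeal R C n)) := by
    ext c
    exact (Ideal.Quotient.mk_eq_mk_iff_sub_mem (powConv R C n c) (algebraMap R C (Coalgebra.counit c))).2
      (MultType.powConv_sub_mem n c)
  have hab : ∀ (s : PushoutCocone (CommRingCat.ofHom (powConv R C n).toRingHom)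
      (CommRingCat.ofHom (Bialgebra.counitAlgHom R C).toRingHom)),
      (∀ r, s.inr r = s.inl (algebraMap R C r)) ∧ torsionIdeal R C n ≤ RingHom.ker s.inl.hom := fun s => by
    have h : ∀ c, s.inl (powConv R C n c) = s.inr (Bialgebra.counitAlgHom R C c) := fun c =>
      ConcreteCategory.congr_hom s.condition c
    have h1 : ∀ r, s.inr r = s.inl (algebraMap R C r) := fun r => by
      have := h (algebraMap R C r)
      rw [AlgHom.commutes, AlgHom.commutes] at this
      exact this.symm
    refine ⟨h1, MultType.torsionIdeal_le_iff.2 fun c => ?_⟩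
    show s.inl.hom (powConv R C n c - algebraMap R C (Coalgebra.counit c)) = 0
    rw [map_sub, sub_eq_zero]
    exact (h c).trans (h1 _)
  refine ⟨⟨w⟩, ⟨PushoutCocone.IsColimit.mk w
    (fun s => CommRingCat.ofHom (Ideal.Quotient.lift _ s.inl.hom (hab s).2)) (fun s => ?_) (fun s => ?_) fun s m h1 h2 => ?_⟩⟩
  · ext c
    rfl
  · ext r
    exact ((hab s).1 r).symm
  · ext c
    exact ConcreteCategory.congr_hom h1 c

variable {S : Scheme.{u}} (H : Over S) [GrpObj H]

/-- The structure map of the torsion subgroup scheme. -/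
abbrev torsionHom (n : ℕ) : pullback η[H].left (𝟙 H ^ n : H ⟶ H).left ⟶ S :=
  pullback.snd η[H].left (𝟙 H ^ n : H ⟶ H).left ≫ H.hom

/-- The torsion subgroup scheme, in a chart. -/
theorem exists_isPullback_torsion {R : Type u} [CommRing R] (g : Spec (CommRingCat.of R) ⟶ S)
    {C : Type u} [CommRing C] [HopfAlgebra R C] (eC : specGrp R C ≅ Grp.mk (Red.bc g H)) (n : ℕ) :
    ∃ l, IsPullback l (Spec.map (CommRingCat.ofHom (algebraMap R (C ⧸ torsionIdeal R C n)))) (torsionHom H n) g := by
  let a : W R C ⟶ Red.bc g H := eC.hom.hom.hom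
  haveI : IsMonHom a := eC.hom.hom.isMonHom_hom
  haveI : IsIso a := ((Grp.forget _).mapIso eC).isIso_hom
  haveI : IsIso a.left := inferInstanceAs (IsIso ((Over.forget _).mapIso (asIso a)).hom)
  have h1 : wmap (powConv R C n) ≫ a = a ≫ (𝟙 (Red.bc g H) ^ n) := by
    rw [← pow_W, MonObj.pow_comp, MonObj.comp_pow, Category.id_comp, Category.comp_id]
  have hB : IsPullback (a.left ≫ pullback.fst H.hom g) (wmap (powConv R C n)).left (𝟙 H ^ n : H ⟶ H).left
      (a.left ≫ pullback.fst H.hom g) := by
    refine IsPullback.paste_horiz (IsPullback.of_horiz_isIso ⟨?_⟩) (map_pow_pullback g H n ▸ isPullback_bc g (𝟙 H ^ n))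
    rw [← Over.comp_left, ← Over.comp_left, h1]
  have hη : Spec.map (CommRingCat.ofHom (Bialgebra.counitAlgHom R C).toRingHom) ≫ a.left ≫ pullback.fst H.hom g =
      g ≫ η[H].left := by
    have h0 : Spec.mapMulEquiv (R := R) (1 : WithConv (C →ₐ[R] R)) = (1 : W R R ⟶ W R C) := map_one _
    have h2 : ((1 : W R R ⟶ W R C) ≫ a) = 1 := MonObj.one_comp a
    have h3 : (adjEquiv g H (W R R)).symm ((1 : W R R ⟶ W R C) ≫ a) = 1 := by rw [h2, map_one]
    have h4 := congrArg Over.Hom.left h3
    rw [← h0] at h4
    have e1 : (1 : WithConv (C →ₐ[R] R)).ofConv.toRingHom = (Bialgebra.counitAlgHom R C).toRingHom :=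
      RingHom.ext fun c => by
        show (1 : WithConv (C →ₐ[R] R)).ofConv c = _
        rw [AlgHom.convOne_apply]
        rfl
    have e2 : ((adjEquiv g H (W R R)).symm (Spec.mapMulEquiv (R := R) (1 : WithConv (C →ₐ[R] R)) ≫ a)).left =
        Spec.map (CommRingCat.ofHom (1 : WithConv (C →ₐ[R] R)).ofConv.toRingHom) ≫ a.left ≫ pullback.fst H.hom g :=
      Category.assoc _ _ _
    rw [e2, e1] at h4
    refine h4.trans ?_
    have e3 : (1 : (Over.map g).obj (W R R) ⟶ H).left = ((W R R).hom ≫ g) ≫ η[H].left := rfl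
    rw [e3, show (W R R).hom = 𝟙 _ from Spec.map_id _, Category.id_comp]
  have hA := isPullback_SpecMap_of_isPushout _ _ _ _ (isPushout_torsion R C n)
  have hAB := hA.paste_horiz hB
  rw [hη] at hAB
  let P := pullback η[H].left (𝟙 H ^ n : H ⟶ H).left
  have hq : pullback.fst η[H].left (𝟙 H ^ n : H ⟶ H).left = torsionHom H n := by
    have e := congrArg (· ≫ H.hom) (pullback.condition (f := η[H].left) (g := (𝟙 H ^ n : H ⟶ H).left))
    simp only [Category.assoc, Over.w] at e
    exact (Category.comp_id _).symm.trans e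
  rw [← hq]
  exact ⟨_, IsPullback.of_right' hAB (IsPullback.of_hasPullback η[H].left (𝟙 H ^ n : H ⟶ H).left).flip⟩

/-- Fibres of a chart over fields are of multiplicative type. -/
theorem isMultType_fibre (hfib : ∀ s : S, SGA3x.IsMultTypeFT (Red.geomFibre s H)) {R : Type u} [CommRing R]
    {g : Spec (CommRingCat.of R) ⟶ S} {C : Type u} [CommRing C] [HopfAlgebra R C]
    (eC : specGrp R C ≅ Grp.mk (Red.bc g H)) (K : Type u) [Field K] [Algebra R K] : IsMultType K (K ⊗[R] C) := by
  let c : Spec (CommRingCat.of K) ⟶ S := Spec.map (CommRingCat.ofHom (algebraMap R K)) ≫ g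
  let s := c (IsLocalRing.closedPoint K)
  let φ : S.residueField s ⟶ CommRingCat.of K := Scheme.descResidueField (Scheme.stalkClosedPointTo c)
  have hk : Spec.map φ ≫ S.fromSpecResidueField s = c :=
    Scheme.descResidueField_stalkClosedPointTo_fromSpecResidueField _ _ c
  let Ω := AlgebraicClosure K
  letI : Algebra (S.residueField s) Ω := ((algebraMap K Ω).comp φ.hom).toAlgebra
  let σ : AlgebraicClosure (S.residueField s) →ₐ[S.residueField s] Ω := IsAlgClosed.lift
  let k : Spec (CommRingCat.of Ω) ⟶ Spec (CommRingCat.of (AlgebraicClosure (S.residueField s))) :=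
    Spec.map (CommRingCat.ofHom σ.toRingHom)
  have hσ : CommRingCat.ofHom (algebraMap (S.residueField s) (AlgebraicClosure (S.residueField s))) ≫
      CommRingCat.ofHom σ.toRingHom = φ ≫ CommRingCat.ofHom (algebraMap K Ω) :=
    CommRingCat.hom_ext σ.comp_algebraMap
  have hΩ : k ≫ Red.geomPt s = Spec.map (CommRingCat.ofHom (algebraMap R Ω)) ≫ g := by
    show Spec.map (CommRingCat.ofHom σ.toRingHom) ≫ Spec.map (CommRingCat.ofHom _) ≫ _ = _
    rw [← Spec.map_comp_assoc, hσ, Spec.map_comp_assoc, hk, IsScalarTower.algebraMap_eq R K Ω,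
      CommRingCat.ofHom_comp, Spec.map_comp_assoc]
  have h := isMultTypeConst_of_FT (HomDesc.isMultTypeFT_bc k (hfib s))
    (MultBridge.chartIso eC Ω (d := Spec.map (CommRingCat.ofHom (algebraMap R Ω)) ≫ g) rfl ≪≫
      (HomDesc.bcGrpIso k _ hΩ H).symm)
  obtain ⟨B, _, _, _, hD⟩ := h
  letI : Algebra K B := ((algebraMap Ω B).comp (algebraMap K Ω)).toAlgebra
  haveI : IsScalarTower K Ω B := IsScalarTower.of_algebraMap_eq' rfl
  haveI : Module.FaithfullyFlat K B := Module.FaithfullyFlat.trans K Ω B
  exact MultType.isMultType_of_ff B (MultType.isDiag_congr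
    ((MultType.cbc (R := K) (A := K ⊗[R] C) Ω B).trans
      (MultFib.mapEquiv B (BialgEquiv.refl K (K ⊗[R] C))))
    (MultType.isDiag_congr (MultFib.mapEquiv B (MultType.cbc (R := R) (A := C) K Ω).symm) hD))

/-- The order of the torsion in a chart, over an arbitrary field. -/
theorem finrank_torsion (hfib : ∀ s : S, SGA3x.IsMultTypeFT (Red.geomFibre s H)) {n : ℕ} (hn : 0 < n) (d : S → ℕ)
    (hd : ∀ (s : S) (x : ↥(Spec (S.residueField s))), ((torsionHom H n).fiberToSpecResidueField s).finrank x = d s)
    {R : Type u} [CommRing R] (g : Spec (CommRingCat.of R) ⟶ S) [IsOpenImmersion g]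
    {C : Type u} [CommRing C] [HopfAlgebra R C] [Algebra.FiniteType R C]
    (eC : specGrp R C ≅ Grp.mk (Red.bc g H)) (K : Type u) [Field K] [Algebra R K] :
    Module.Finite K (K ⊗[R] (C ⧸ torsionIdeal R C n)) ∧
      Module.finrank K (K ⊗[R] (C ⧸ torsionIdeal R C n)) =
        d (g ((Spec.map (CommRingCat.ofHom (algebraMap R K))) (IsLocalRing.closedPoint K))) := by
  let Q := C ⧸ torsionIdeal R C n
  have hfinK : ∀ (L : Type u) [Field L] [Algebra R L], Module.Finite L (L ⊗[R] Q) := fun L _ _ => by
    haveI := MultType.finite_quot_torsionIdeal (isMultType_fibre H hfib eC L) inferInstance n hn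
    exact Module.Finite.equiv (quotEquiv (R := R) (C := C) L n).toLinearEquiv.symm
  refine ⟨hfinK K, ?_⟩
  let c : Spec (CommRingCat.of K) ⟶ S := Spec.map (CommRingCat.ofHom (algebraMap R K)) ≫ g
  have hs0 : g ((Spec.map (CommRingCat.ofHom (algebraMap R K))) (IsLocalRing.closedPoint K)) =
      c (IsLocalRing.closedPoint K) := rfl
  rw [hs0]
  let s := c (IsLocalRing.closedPoint K)
  let L : Type u := S.residueField s
  have hrange : Set.range (S.fromSpecResidueField s) ⊆ Set.range g := by
    rintro _ ⟨x, rfl⟩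
    exact ⟨_, ((Scheme.fromSpecResidueField_apply s x).trans rfl).symm⟩
  let j : Spec (CommRingCat.of L) ⟶ Spec (CommRingCat.of R) :=
    IsOpenImmersion.lift g (S.fromSpecResidueField s) hrange
  letI : Algebra R L := (Spec.preimage j).hom.toAlgebra
  have hj : Spec.map (CommRingCat.ofHom (algebraMap R L)) ≫ g = S.fromSpecResidueField s := by
    rw [RingHom.algebraMap_toAlgebra, CommRingCat.ofHom_hom, Spec.map_preimage]
    exact IsOpenImmersion.lift_fac _ _ _
  let φ : S.residueField s ⟶ CommRingCat.of K := Scheme.descResidueField (Scheme.stalkClosedPointTo c)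
  letI : Algebra L K := φ.hom.toAlgebra
  haveI : IsScalarTower R L K := by
    refine IsScalarTower.of_algebraMap_eq' ?_
    have h : Spec.map φ ≫ Spec.map (CommRingCat.ofHom (algebraMap R L)) = Spec.map (CommRingCat.ofHom (algebraMap R K)) := by
      rw [← cancel_mono g, Category.assoc, hj]
      exact Scheme.descResidueField_stalkClosedPointTo_fromSpecResidueField _ _ c
    rw [← Spec.map_comp] at h
    exact (congrArg CommRingCat.Hom.hom (Spec.map_injective h)).symm
  obtain ⟨l, hl⟩ := exists_isPullback_torsion H g eC n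
  have hL : IsPullback _ (Spec.map (CommRingCat.ofHom (algebraMap L (L ⊗[R] Q)))) (torsionHom H n)
      (S.fromSpecResidueField s) :=
    hj ▸ (isPullback_SpecMap_of_isPushout _ _ _ _ (CommRingCat.isPushout_tensorProduct R L Q).flip).paste_horiz hl
  haveI := hfinK L
  rw [← (Algebra.TensorProduct.cancelBaseChange R L K K Q).toLinearEquiv.finrank_eq, Module.finrank_baseChange,
    ← hd s (IsLocalRing.closedPoint L)]
  have e : Spec.map (CommRingCat.ofHom (algebraMap L (L ⊗[R] Q))) =
      hL.isoPullback.hom ≫ (torsionHom H n).fiberToSpecResidueField s := hL.isoPullback_hom_snd.symm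
  haveI : IsFinite (Spec.map (CommRingCat.ofHom (algebraMap L (L ⊗[R] Q)))) :=
    (IsFinite.SpecMap_iff _).2 (RingHom.finite_algebraMap.2 inferInstance)
  haveI : Flat (Spec.map (CommRingCat.ofHom (algebraMap L (L ⊗[R] Q)))) :=
    Flat.SpecMap_iff.2 (RingHom.flat_algebraMap_iff.2 inferInstance)
  haveI : IsFinite ((torsionHom H n).fiberToSpecResidueField s) := by
    rw [← MorphismProperty.cancel_left_of_respectsIso @IsFinite hL.isoPullback.hom, ← e]
    infer_instance
  haveI : Flat ((torsionHom H n).fiberToSpecResidueField s) := by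
    rw [← MorphismProperty.cancel_left_of_respectsIso @Flat hL.isoPullback.hom, ← e]
    infer_instance
  rw [← Scheme.Hom.finrank_comp_left_of_isIso hL.isoPullback.hom ((torsionHom H n).fiberToSpecResidueField s), ← e,
    Scheme.Hom.finrank_SpecMap_algebraMap, Module.rankAtStalk_eq_finrank_of_free]
  rfl

/-- Affine flat groups with geometric fibres of multiplicative type and locally constant torsion orders. -/
theorem isMultTypeFT_of_torsion_order [IsAffineHom H.hom] [Flat H.hom] [LocallyOfFinitePresentation H.hom]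
    (hfib : ∀ s : S, SGA3x.IsMultTypeFT (Red.geomFibre s H))
    (hord : ∀ n : ℕ, 0 < n → ∃ d : S → ℕ, IsLocallyConstant d ∧ ∀ (s : S) (x : ↥(Spec (S.residueField s))),
      ((torsionHom H n).fiberToSpecResidueField s).finrank x = d s) : SGA3x.IsMultTypeFT H := by
  refine MultBridge.isMultTypeFT_of_local fun s => ?_
  obtain ⟨V, hV, hsV, -⟩ := exists_isAffineOpen_mem_and_subset (x := s) (U := ⊤) trivial
  obtain ⟨R, _, g, hg, hs⟩ : ∃ (R : Type u) (_ : CommRing R) (g : Spec (CommRingCat.of R) ⟶ S),
      IsOpenImmersion g ∧ s ∈ Set.range g :=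
    ⟨Γ(S, V), inferInstance, hV.fromSpec, inferInstance, (Set.ext_iff.1 hV.range_fromSpec s).2 hsV⟩
  obtain ⟨p, hp⟩ := hs
  haveI : IsAffineHom (Red.bc g H).hom := inferInstanceAs (IsAffineHom (pullback.snd H.hom g))
  obtain ⟨C, _, _, ⟨eC⟩⟩ := MultBridge.exists_hopf R (Red.bc g H)
  haveI : Algebra.FinitePresentation R C := by
    have h := MultBridge.prop_algebraMap eC @LocallyOfFinitePresentation
      (inferInstanceAs (LocallyOfFinitePresentation (pullback.snd H.hom g)))
    rw [HasRingHomProperty.Spec_iff (P := @LocallyOfFinitePresentation)] at h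
    exact RingHom.finitePresentation_algebraMap.1 h
  haveI : Module.Flat R C := by
    have h := MultBridge.prop_algebraMap eC @Flat (inferInstanceAs (Flat (pullback.snd H.hom g)))
    rw [HasRingHomProperty.Spec_iff (P := @Flat)] at h
    exact RingHom.flat_algebraMap_iff.1 h
  let Rp := Localization.AtPrime p.asIdeal
  have hloc : IsMultType Rp (Rp ⊗[R] C) := by
    refine isMultType_of_torsion_order (fun q _ _ => ?_) (fun K _ _ => ?_) fun n hn => ?_
    · exact Module.Flat.trans Rp (Rp ⊗[R] C) _
    · letI : Algebra R K := ((algebraMap Rp K).comp (algebraMap R Rp)).toAlgebra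
      haveI : IsScalarTower R Rp K := IsScalarTower.of_algebraMap_eq' rfl
      obtain ⟨c, hu⟩ := MultType.exists_ff_chart (isMultType_fibre H hfib eC K)
      haveI : Module.FaithfullyFlat K c.R' := c.faithfullyFlat hu
      exact MultType.isMultType_of_ff c.R' (MultType.isDiag_congr
        (MultFib.mapEquiv c.R' (MultType.cbc (R := R) (A := C) Rp K).symm) ⟨c.M, inferInstance, ⟨c.e⟩⟩)
    · obtain ⟨d, hd, hd'⟩ := hord n hn
      refine ⟨d (g p), fun K _ _ => ?_⟩
      letI : Algebra R K := ((algebraMap Rp K).comp (algebraMap R Rp)).toAlgebra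
      haveI : IsScalarTower R Rp K := IsScalarTower.of_algebraMap_eq' rfl
      let E : K ⊗[Rp] ((Rp ⊗[R] C) ⧸ torsionIdeal Rp (Rp ⊗[R] C) n) ≃ₐ[K] K ⊗[R] (C ⧸ torsionIdeal R C n) :=
        (Algebra.TensorProduct.congr (AlgEquiv.refl : K ≃ₐ[K] K) (quotEquiv (R := R) (C := C) Rp n).symm).trans
          (Algebra.TensorProduct.cancelBaseChange R Rp K K _)
      obtain ⟨h1, h2⟩ := finrank_torsion H hfib hn d hd' g eC K
      haveI := h1
      refine ⟨Module.Finite.equiv E.toLinearEquiv.symm, E.toLinearEquiv.finrank_eq.trans (h2.trans ?_)⟩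
      let t := (Spec.map (CommRingCat.ofHom (algebraMap R K))) (IsLocalRing.closedPoint K)
      have hsp : t ⤳ p := by
        refine (PrimeSpectrum.le_iff_specializes t p).1 fun r hr => ?_
        by_contra h
        exact (IsLocalRing.closedPoint K).isPrime.ne_top (Ideal.eq_top_of_isUnit_mem _ hr
          ((IsLocalization.map_units Rp (⟨r, h⟩ : p.asIdeal.primeCompl)).map (algebraMap Rp K)))
      exact ((hsp.map g.base.hom.continuous).map hd.continuous).eq
  have hfibp : IsMultType p.asIdeal.ResidueField (p.asIdeal.ResidueField ⊗[R] C) := isMultType_fibre H hfib eC _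
  obtain ⟨B, _, _, Q, _, _, hQ, hB⟩ := MultFib.exists_etale_split_local p.asIdeal hfibp hloc
  exact MultBridge.exists_split_of_etale eC s p hp B Q hQ hB

end Groth.Agent.MultGeom
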