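import Groth.Agent.MultFib.Main
import Groth.Agent.MultFinLib.Main
import Groth.Agent.MultNormal.HopfIdeal
import Groth.Agent.MultType.Cocomm
import Groth.Agent.MultType.TorsionDense
import Mathlib.RingTheory.TensorProduct.Quotient

/-!
Torsion subgroups, base change, and the order of the torsion in the fibres.
-/

set_option autoImplicit false
set_option linter.style.haveILetI false
set_option linter.unusedSectionVars false

universe u

open TensorProduct SGA3b IsLocalRing
open scoped TensorProduct

noncomputable section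

namespace Groth.Agent.MultGeom

variable {R : Type u} [CommRing R] {C : Type u} [CommRing C] [HopfAlgebra R C]

/-- The torsion ideal commutes with base change. -/
theorem torsionIdeal_baseChange (T : Type u) [CommRing T] [Algebra R T] (n : ℕ) :
    torsionIdeal T (T ⊗[R] C) n =
      (torsionIdeal R C n).map (Algebra.TensorProduct.includeRight : C →ₐ[R] T ⊗[R] C) := by
  set ι := (Algebra.TensorProduct.includeRight : C →ₐ[R] T ⊗[R] C)
  have key : ∀ (t : T) (a : C), powConv T (T ⊗[R] C) n (t ⊗ₜ a) -
      algebraMap T (T ⊗[R] C) (Coalgebra.counit (R := T) (t ⊗ₜ[R] a)) =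
      (t ⊗ₜ[R] 1) * ι (powConv R C n a - algebraMap R C (Coalgebra.counit a)) := fun t a => by
    rw [VerschLib.powConv_baseChange, TensorProduct.counit_tmul, CommSemiring.counit_apply,
      Algebra.TensorProduct.algebraMap_apply, map_sub, mul_sub, AlgHom.commutes,
      Algebra.TensorProduct.algebraMap_apply, Algebra.TensorProduct.tmul_mul_tmul,
      show ι (powConv R C n a) = 1 ⊗ₜ[R] powConv R C n a from rfl, Algebra.TensorProduct.tmul_mul_tmul,
      one_mul, mul_one, mul_one]
    congr 2
    rw [Algebra.smul_def]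
    exact mul_comm _ _
  refine le_antisymm (MultType.torsionIdeal_le_iff.2 fun z => ?_) (Ideal.map_le_iff_le_comap.2 fun x hx => ?_)
  · induction z using TensorProduct.induction_on with
    | zero => simp
    | add p q hp hq => rw [map_add, map_add, map_add, add_sub_add_comm]; exact add_mem hp hq
    | tmul t a =>
      rw [key]
      exact Ideal.mul_mem_left _ _ (Ideal.mem_map_of_mem ι (MultType.powConv_sub_mem n a))
  · refine (MultType.torsionIdeal_le_iff (K := (torsionIdeal T (T ⊗[R] C) n).comap ι)).2 (fun a => ?_) hx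
    have h := MultType.powConv_sub_mem (R := T) n ((1 : T) ⊗ₜ[R] a)
    rw [key, ← Algebra.TensorProduct.one_def, one_mul] at h
    exact h

/-- The coordinate ring of the torsion subgroup commutes with base change. -/
def quotEquiv (T : Type u) [CommRing T] [Algebra R T] (n : ℕ) :
    T ⊗[R] (C ⧸ torsionIdeal R C n) ≃ₐ[T] (T ⊗[R] C) ⧸ torsionIdeal T (T ⊗[R] C) n :=
  (Algebra.TensorProduct.tensorQuotientEquiv T C T (torsionIdeal R C n)).trans
    (Ideal.quotientEquivAlgOfEq T (torsionIdeal_baseChange T n).symm)

/-- A surjection is injective after tensoring with a field in which the ranks agree. -/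
theorem tmul_eq_zero_of_finrank {A : Type u} [CommRing A] {Q : Type u} [CommRing Q] [Algebra A Q] (x : Q)
    (K : Type u) [Field K] [Algebra A K] [Module.Finite K (K ⊗[A] Q)]
    (h : Module.finrank K (K ⊗[A] (Q ⧸ Ideal.span {x})) = Module.finrank K (K ⊗[A] Q)) :
    (1 : K) ⊗ₜ[A] x = 0 := by
  let u : K ⊗[A] Q →ₐ[K] K ⊗[A] (Q ⧸ Ideal.span {x}) :=
    Algebra.TensorProduct.map (AlgHom.id K K) (Ideal.Quotient.mkₐ A _)
  have hs : Function.Surjective u := by
    intro z
    induction z using TensorProduct.induction_on with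
    | zero => exact ⟨0, map_zero u⟩
    | tmul r a =>
      obtain ⟨a, rfl⟩ := Ideal.Quotient.mk_surjective a
      exact ⟨r ⊗ₜ a, rfl⟩
    | add a b ha hb =>
      obtain ⟨a, rfl⟩ := ha
      obtain ⟨b, rfl⟩ := hb
      exact ⟨a + b, map_add u a b⟩
  haveI : Module.Finite K (K ⊗[A] (Q ⧸ Ideal.span {x})) := Module.Finite.of_surjective u.toLinearMap hs
  apply (LinearMap.injective_iff_surjective_of_finrank_eq_finrank (f := u.toLinearMap) h.symm).2 hs
  show (1 : K) ⊗ₜ[A] Ideal.Quotient.mk (Ideal.span {x}) x = u.toLinearMap 0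
  rw [Ideal.Quotient.eq_zero_iff_mem.2 (Ideal.mem_span_singleton_self x), TensorProduct.tmul_zero, map_zero]

/-- An element vanishing on all torsion subgroups of a group of multiplicative type is zero. -/
theorem eq_zero_of_mem_torsion (hft : Algebra.FiniteType R C) (hC : IsMultType R C) (x : C)
    (h : ∀ n : ℕ, 0 < n → x ∈ torsionIdeal R C n) : x = 0 := by
  have h1 := MultType.iInf_torsionIdeal_away hft hC (1 : C)
  have h2 : algebraMap C (Localization.Away (1 : C)) x ∈ (⊥ : Ideal _) :=
    h1.le (Submodule.mem_iInf _ |>.2 fun n => Ideal.mem_map_of_mem _ (h n.1 n.2))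
  rw [Submodule.mem_bot, IsLocalization.map_eq_zero_iff (Submonoid.powers (1 : C))] at h2
  obtain ⟨⟨_, k, rfl⟩, hk⟩ := h2
  simpa using hk

end Groth.Agent.MultGeom
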