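import Groth.Agent.MultGeomLib.Quot

/-!
A flat affine group over a local ring with fibres of multiplicative type and constant torsion order is of
multiplicative type. No commutativity is assumed.
-/

set_option autoImplicit false
set_option linter.style.haveILetI false
set_option linter.unusedSectionVars false
set_option maxHeartbeats 1000000

universe u

open TensorProduct SGA3b IsLocalRing
open scoped TensorProduct

noncomputable section

namespace Groth.Agent.MultGeom

variable {A : Type u} [CommRing A] {C : Type u} [CommRing C] [HopfAlgebra A C]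

/-- The subgroup cut out by a split part is of multiplicative type. -/
theorem isMultType_quot_of_split {e : C} [(Ideal.span {e}).IsHopfIdeal A]
    (S : Type u) [CommRing S] [Algebra A S] [Module.FaithfullyFlat A S] {M : Type u} [CommGroup M]
    (ψ : S ⊗[A] C →ₐc[S] MonoidAlgebra S M) (hψ : Function.Surjective ψ)
    (hker : RingHom.ker (ψ : S ⊗[A] C →ₐ[S] MonoidAlgebra S M) = Ideal.span {(1 : S) ⊗ₜ[A] e}) :
    IsMultType A (C ⧸ Ideal.span {e}) := by
  let ψa : S ⊗[A] C →ₐ[S] MonoidAlgebra S M := ψ
  set eS : S ⊗[A] C := (1 : S) ⊗ₜ[A] e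
  let Φ : C →ₐ[A] MonoidAlgebra S M := (ψa.restrictScalars A).comp Algebra.TensorProduct.includeRight
  let Θa : S ⊗[A] (C ⧸ Ideal.span {e}) →ₐ[S] MonoidAlgebra S M :=
    Algebra.TensorProduct.lift (Algebra.ofId S _)
      (Ideal.Quotient.liftₐ (Ideal.span {e}) Φ fun x hx => by
        obtain ⟨t, rfl⟩ := Ideal.mem_span_singleton'.1 hx
        rw [map_mul, show Φ e = 0 from hker.ge (Ideal.mem_span_singleton_self eS), mul_zero])
      fun _ _ => Commute.all _ _
  let Pr : S ⊗[A] C →ₐc[S] S ⊗[A] (C ⧸ Ideal.span {e}) :=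
    Bialgebra.TensorProduct.map (BialgHom.id S S) (Bialgebra.Quotient.mkBialgHom (R := A) (Ideal.span {e}))
  have hPr : Function.Surjective Pr := by
    intro z
    induction z using TensorProduct.induction_on with
    | zero => exact ⟨0, map_zero Pr⟩
    | tmul s c =>
      obtain ⟨c, rfl⟩ := Ideal.Quotient.mk_surjective c
      exact ⟨s ⊗ₜ c, rfl⟩
    | add p q hp hq =>
      obtain ⟨p, rfl⟩ := hp
      obtain ⟨q, rfl⟩ := hq
      exact ⟨p + q, map_add Pr p q⟩
  have hΘPr : ∀ y, Θa (Pr y) = ψ y := by
    intro y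
    induction y using TensorProduct.induction_on with
    | zero => simp
    | add p q hp hq => simp only [map_add, hp, hq]
    | tmul s c =>
      rw [show s ⊗ₜ[A] c = s • ((1 : S) ⊗ₜ[A] c) by simp [TensorProduct.smul_tmul'], map_smul, map_smul, map_smul]
      congr 1
      show Θa ((1 : S) ⊗ₜ[A] Ideal.Quotient.mk _ c) = _
      simp [Θa, Φ, ψa, ← Algebra.TensorProduct.one_def, ← MonoidAlgebra.one_def]
      all_goals rfl
  let Θ : S ⊗[A] (C ⧸ Ideal.span {e}) →ₐc[S] MonoidAlgebra S M :=
    BialgHom.ofAlgHom Θa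
      (AlgHom.ext fun z => by
        obtain ⟨y, rfl⟩ := hPr z
        show Coalgebra.counit (R := S) (Θa (Pr y)) = Coalgebra.counit (R := S) (Pr y)
        rw [hΘPr, CoalgHomClass.counit_comp_apply, CoalgHomClass.counit_comp_apply])
      (AlgHom.ext fun z => by
        obtain ⟨y, rfl⟩ := hPr z
        show Algebra.TensorProduct.map Θa Θa (Coalgebra.comul (R := S) (Pr y)) = Coalgebra.comul (R := S) (Θa (Pr y))
        rw [hΘPr, ← CoalgHomClass.map_comp_comul_apply ψ y, ← CoalgHomClass.map_comp_comul_apply Pr y]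
        generalize Coalgebra.comul (R := S) y = w
        induction w using TensorProduct.induction_on with
        | zero => simp
        | tmul a b => simp [hΘPr]
        | add a b ha hb => simp only [map_add, ha, hb])
  have hΘ : Function.Bijective Θ := by
    refine ⟨(injective_iff_map_eq_zero Θ).2 fun z hz => ?_, fun w => ?_⟩
    · obtain ⟨y, rfl⟩ := hPr z
      obtain ⟨t, rfl⟩ := Ideal.mem_span_singleton'.1 (hker.le (show ψ y = 0 from (hΘPr y).symm.trans hz))
      rw [map_mul, show Pr eS = (1 : S) ⊗ₜ[A] Ideal.Quotient.mk _ e from rfl,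
        Ideal.Quotient.eq_zero_iff_mem.2 (Ideal.mem_span_singleton_self e), TensorProduct.tmul_zero, mul_zero]
    · obtain ⟨y, rfl⟩ := hψ w
      exact ⟨Pr y, hΘPr y⟩
  exact MultType.isMultType_of_ff S ⟨M, inferInstance, ⟨BialgEquiv.ofBijective Θ hΘ⟩⟩

/-- Elements of the maximal ideal die over the residue field. -/
theorem tmul_eq_zero_of_mem [IsLocalRing A] {Q : Type u} [CommRing Q] [Algebra A Q] (x : Q)
    (hx : x ∈ Ideal.map (algebraMap A Q) (maximalIdeal A)) : (1 : ResidueField A) ⊗ₜ[A] x = 0 := by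
  let ι : Q →ₐ[A] ResidueField A ⊗[A] Q := Algebra.TensorProduct.includeRight
  refine (Ideal.map_le_iff_le_comap.2 fun a ha => ?_ : _ ≤ RingHom.ker ι) hx
  show ι (algebraMap A Q a) = 0
  rw [AlgHom.commutes, IsScalarTower.algebraMap_apply A (ResidueField A) (ResidueField A ⊗[A] Q),
    IsLocalRing.ResidueField.algebraMap_eq, (IsLocalRing.residue_eq_zero_iff a).2 ha, map_zero]

/-- Dividing by an element which dies in a fibre does not change the fibre. -/
theorem finrank_quot_eq {Q : Type u} [CommRing Q] [Algebra A Q] (x : Q) (K : Type u) [Field K] [Algebra A K]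
    (h : (1 : K) ⊗ₜ[A] x = 0) :
    Module.finrank K (K ⊗[A] (Q ⧸ Ideal.span {x})) = Module.finrank K (K ⊗[A] Q) := by
  let u : K ⊗[A] Q →ₐ[K] K ⊗[A] (Q ⧸ Ideal.span {x}) :=
    Algebra.TensorProduct.map (AlgHom.id K K) (Ideal.Quotient.mkₐ A _)
  refine (LinearEquiv.finrank_eq (LinearEquiv.ofBijective u.toLinearMap ⟨?_, ?_⟩)).symm
  · refine (injective_iff_map_eq_zero u.toLinearMap).2 fun z hz => ?_
    have hz' : z ∈ RingHom.ker (Algebra.TensorProduct.map (AlgHom.id A K) (Ideal.Quotient.mkₐ A (Ideal.span {x}))) := hz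
    rw [Algebra.TensorProduct.lTensor_ker (Ideal.Quotient.mkₐ A (Ideal.span {x})) Ideal.Quotient.mk_surjective, show RingHom.ker (Ideal.Quotient.mkₐ A (Ideal.span {x})) = Ideal.span {x} from Ideal.Quotient.mkₐ_ker A _, Ideal.map_span,
      Set.image_singleton, Algebra.TensorProduct.includeRight_apply, h, Ideal.span_singleton_zero] at hz'
    exact hz'
  · exact LinearMap.lTensor_surjective _ (g := (Ideal.Quotient.mkₐ A (Ideal.span {x})).toLinearMap)
      Ideal.Quotient.mk_surjective

/-- The torsion quotient of a group of multiplicative type over a local ring is free. -/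
theorem free_quot_torsion [IsLocalRing A] [Algebra.FiniteType A C] [Coalgebra.IsCocomm A C] (hC : IsMultType A C)
    (n : ℕ) (hn : 0 < n) :
    Module.Free A (C ⧸ torsionIdeal A C n) ∧ Module.Finite A (C ⧸ torsionIdeal A C n) := by
  haveI : (torsionIdeal A C n).IsHopfIdeal A := MultNormal.isHopfIdeal_torsionIdeal n
  have hN : IsMultType A (C ⧸ torsionIdeal A C n) :=
    MultType.isMultType_of_charts hC fun c => (MultType.isDiag_and_finite_quot inferInstance c.e n hn _ rfl).1
  haveI : Module.Finite A (C ⧸ torsionIdeal A C n) :=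
    MultType.finite_of_charts hC fun c => (MultType.isDiag_and_finite_quot inferInstance c.e n hn _ rfl).2
  haveI := MultFinLib.projective_of_isMultType hN
  exact ⟨Module.free_of_flat_of_isLocalRing, inferInstance⟩

/-- A split part which carries the whole torsion of every fibre is everything. -/
theorem eq_zero_of_torsion_order [IsLocalRing A] [Algebra.FiniteType A C] {e : C}
    [(Ideal.span {e}).IsHopfIdeal A] (he : IsIdempotentElem e)
    (heI : e ∈ Ideal.map (algebraMap A C) (maximalIdeal A)) (hC₁ : IsMultType A (C ⧸ Ideal.span {e}))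
    (hfib : ∀ (p : Ideal A) [p.IsPrime], IsMultType p.ResidueField (p.ResidueField ⊗[A] C))
    (hord : ∀ n : ℕ, 0 < n → ∃ r : ℕ, ∀ (K : Type u) [Field K] [Algebra A K],
      Module.Finite K (K ⊗[A] (C ⧸ torsionIdeal A C n)) ∧
        Module.finrank K (K ⊗[A] (C ⧸ torsionIdeal A C n)) = r) : e = 0 := by
  haveI : Algebra.FiniteType A (C ⧸ Ideal.span {e}) :=
    Algebra.FiniteType.of_surjective (Ideal.Quotient.mkₐ A (Ideal.span {e})) Ideal.Quotient.mk_surjective
  haveI := MultType.isCocomm_of_isMultType hC₁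
  have hmem : ∀ n : ℕ, 0 < n → ∀ (K : Type u) [Field K] [Algebra A K],
      (1 : K) ⊗ₜ[A] e ∈ torsionIdeal K (K ⊗[A] C) n := by
    intro n hn
    obtain ⟨r, hr⟩ := hord n hn
    let J := torsionIdeal A C n
    let x : C ⧸ J := Ideal.Quotient.mk J e
    let π := Bialgebra.Quotient.mkBialgHom (R := A) (Ideal.span {e})
    let J₁ := torsionIdeal A (C ⧸ Ideal.span {e}) n
    obtain ⟨hfree, hNf⟩ := free_quot_torsion (C := C ⧸ Ideal.span {e}) hC₁ n hn
    haveI := hfree
    have hJmap : J.map (Ideal.Quotient.mk (Ideal.span {e})) = J₁ := by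
      refine le_antisymm (Ideal.map_le_iff_le_comap.2 (MultType.torsionIdeal_le_iff.2 fun a => ?_))
        (MultType.torsionIdeal_le_iff.2 fun b => ?_)
      · show π (powConv A C n a - algebraMap A C (Coalgebra.counit a)) ∈ J₁
        rw [map_sub, MultType.map_powConv, AlgHomClass.commutes, ← CoalgHomClass.counit_comp_apply π a]
        exact MultType.powConv_sub_mem n (π a)
      · obtain ⟨a, rfl⟩ := Ideal.Quotient.mk_surjective b
        show powConv A _ n (π a) - algebraMap A _ (Coalgebra.counit (R := A) (π a)) ∈ _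
        rw [← MultType.map_powConv, CoalgHomClass.counit_comp_apply π a, ← AlgHomClass.commutes π, ← map_sub]
        exact Ideal.mem_map_of_mem _ (MultType.powConv_sub_mem n a)
    let N := (C ⧸ J) ⧸ Ideal.span {x}
    have hspan : Ideal.span {x} = (Ideal.span {e}).map (Ideal.Quotient.mk J) := by
      rw [Ideal.map_span, Set.image_singleton]
    let E : ((C ⧸ Ideal.span {e}) ⧸ J₁) ≃ₐ[A] N :=
      ((Ideal.quotientEquivAlgOfEq A hJmap.symm).trans (DoubleQuot.quotQuotEquivCommₐ A (Ideal.span {e}) J)).trans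
        (Ideal.quotientEquivAlgOfEq A hspan.symm)
    haveI : Module.Free A N := Module.Free.of_equiv E.toLinearEquiv
    have hN' : ∀ (K : Type u) [Field K] [Algebra A K],
        Module.finrank K (K ⊗[A] N) = Module.finrank A N := fun K _ _ => Module.finrank_baseChange
    intro K _ _
    haveI := (hr K).1
    have hrN : Module.finrank A N = r := by
      have hxm : x ∈ Ideal.map (algebraMap A (C ⧸ J)) (maximalIdeal A) := by
        have := Ideal.mem_map_of_mem (Ideal.Quotient.mk J) heI
        rwa [Ideal.map_map] at this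
      rw [← hN' (ResidueField A), ← (hr (ResidueField A)).2]
      exact finrank_quot_eq x (ResidueField A) (tmul_eq_zero_of_mem x hxm)
    have h0 := tmul_eq_zero_of_finrank x K ((hN' K).trans (hrN.trans (hr K).2.symm))
    have h1 := congrArg (quotEquiv (C := C) K n) h0
    rw [map_zero] at h1
    exact Ideal.Quotient.eq_zero_iff_mem.1 h1
  refine he.eq_zero_of_isNilpotent (nilpotent_iff_mem_prime.2 fun P hP => ?_)
  haveI := hP
  let p := P.comap (algebraMap A C)
  let κ := p.ResidueField
  let φ : κ ⊗[A] C →ₐ[A] P.ResidueField :=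
    Algebra.TensorProduct.lift (Ideal.ResidueField.mapₐ p P (Algebra.ofId A C) rfl)
      (IsScalarTower.toAlgHom A C P.ResidueField) fun _ _ => Commute.all _ _
  have h := congrArg φ (eq_zero_of_mem_torsion (R := κ) inferInstance (hfib p) ((1 : κ) ⊗ₜ[A] e) fun n hn => hmem n hn κ)
  rw [map_zero, Algebra.TensorProduct.lift_tmul, map_one, one_mul] at h
  exact Ideal.algebraMap_residueField_eq_zero.1 h

/-- The local criterion. -/
theorem isMultType_of_torsion_order {R : Type u} [CommRing R] [IsLocalRing R] {C : Type u} [CommRing C]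
    [HopfAlgebra R C] [Algebra.FinitePresentation R C]
    (hfl : ∀ (q : Ideal C) [q.IsPrime], Ideal.map (algebraMap R C) (maximalIdeal R) ≤ q →
      Module.Flat R (Localization.AtPrime q))
    (hfib : ∀ (K : Type u) [Field K] [Algebra R K], IsMultType K (K ⊗[R] C))
    (hord : ∀ n : ℕ, 0 < n → ∃ r : ℕ, ∀ (K : Type u) [Field K] [Algebra R K],
      Module.Finite K (K ⊗[R] (C ⧸ torsionIdeal R C n)) ∧
        Module.finrank K (K ⊗[R] (C ⧸ torsionIdeal R C n)) = r) : IsMultType R C := by
  obtain ⟨R', _, _, _, hR', e, hH, S, _, _, M, _, ψ, hfin, hff, -, he, heI, hψ, hker⟩ :=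
    MultFib.exists_split hfl (hfib (ResidueField R))
  haveI := hH
  have he0 : e = 0 := by
    refine eq_zero_of_torsion_order he heI (isMultType_quot_of_split S ψ hψ hker) (fun p _ => ?_) fun n hn => ?_
    · obtain ⟨c, hu⟩ := MultType.exists_ff_chart (hfib p.ResidueField)
      haveI : Module.FaithfullyFlat p.ResidueField c.R' := c.faithfullyFlat hu
      exact MultType.isMultType_of_ff c.R' (MultType.isDiag_congr
        (MultFib.mapEquiv c.R' (MultType.cbc (R := R) (A := C) R' p.ResidueField).symm) ⟨c.M, inferInstance, ⟨c.e⟩⟩)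
    · obtain ⟨r, hr⟩ := hord n hn
      refine ⟨r, fun K _ _ => ?_⟩
      letI : Algebra R K := ((algebraMap R' K).comp (algebraMap R R')).toAlgebra
      haveI : IsScalarTower R R' K := IsScalarTower.of_algebraMap_eq' rfl
      let E : K ⊗[R'] ((R' ⊗[R] C) ⧸ torsionIdeal R' (R' ⊗[R] C) n) ≃ₐ[K] K ⊗[R] (C ⧸ torsionIdeal R C n) :=
        (Algebra.TensorProduct.congr (AlgEquiv.refl : K ≃ₐ[K] K) (quotEquiv (R := R) (C := C) R' n).symm).trans
          (Algebra.TensorProduct.cancelBaseChange R R' K K _)
      haveI := (hr K).1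
      exact ⟨Module.Finite.equiv E.toLinearEquiv.symm, E.toLinearEquiv.finrank_eq.trans (hr K).2⟩
  rw [he0, TensorProduct.tmul_zero, Ideal.span_singleton_zero] at hker
  exact MultFib.isMultType_of_split_zero R' S ψ hψ hker

end Groth.Agent.MultGeom
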